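import Cfsg.Agent.Helper17.FiR3TC.Final

set_option autoImplicit false
set_option linter.all false
set_option maxRecDepth 100000

noncomputable section

namespace Cfsg.Agent.Helper17.FiR3TC

theorem N1 : nd 1 = n1 := ndS (p := 0) (l := 5) rfl N0 D1
theorem N2 : nd 2 = n2 := ndS (p := 1) (l := 4) rfl N1 D2
theorem N3 : nd 3 = n3 := ndS (p := 2) (l := 3) rfl N2 D3
theorem N4 : nd 4 = n4 := ndS (p := 3) (l := 2) rfl N3 D4
theorem N5 : nd 5 = n5 := ndS (p := 4) (l := 1) rfl N4 D5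
theorem N6 : nd 6 = n6 := ndS (p := 4) (l := 6) rfl N4 D6
theorem N7 : nd 7 = n7 := ndS (p := 5) (l := 0) rfl N5 D7
theorem N8 : nd 8 = n8 := ndS (p := 5) (l := 6) rfl N5 D8
theorem N9 : nd 9 = n9 := ndS (p := 7) (l := 6) rfl N7 D9
theorem N10 : nd 10 = n10 := ndS (p := 8) (l := 2) rfl N8 D10
theorem N11 : nd 11 = n11 := ndS (p := 9) (l := 2) rfl N9 D11
theorem N12 : nd 12 = n12 := ndS (p := 10) (l := 3) rfl N10 D12
theorem N13 : nd 13 = n13 := ndS (p := 11) (l := 1) rfl N11 D13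
theorem N14 : nd 14 = n14 := ndS (p := 11) (l := 3) rfl N11 D14
theorem N15 : nd 15 = n15 := ndS (p := 12) (l := 4) rfl N12 D15
theorem N16 : nd 16 = n16 := ndS (p := 13) (l := 3) rfl N13 D16
theorem N17 : nd 17 = n17 := ndS (p := 14) (l := 4) rfl N14 D17
theorem N18 : nd 18 = n18 := ndS (p := 15) (l := 5) rfl N15 D18
theorem N19 : nd 19 = n19 := ndS (p := 16) (l := 2) rfl N16 D19
theorem N20 : nd 20 = n20 := ndS (p := 16) (l := 4) rfl N16 D20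
theorem N21 : nd 21 = n21 := ndS (p := 17) (l := 5) rfl N17 D21
theorem N22 : nd 22 = n22 := ndS (p := 19) (l := 4) rfl N19 D22
theorem N23 : nd 23 = n23 := ndS (p := 19) (l := 6) rfl N19 D23
theorem N24 : nd 24 = n24 := ndS (p := 20) (l := 5) rfl N20 D24
theorem N25 : nd 25 = n25 := ndS (p := 22) (l := 3) rfl N22 D25
theorem N26 : nd 26 = n26 := ndS (p := 22) (l := 5) rfl N22 D26
theorem N27 : nd 27 = n27 := ndS (p := 22) (l := 6) rfl N22 D27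
theorem N28 : nd 28 = n28 := ndS (p := 25) (l := 5) rfl N25 D28
theorem N29 : nd 29 = n29 := ndS (p := 25) (l := 6) rfl N25 D29
theorem N30 : nd 30 = n30 := ndS (p := 26) (l := 6) rfl N26 D30
theorem N31 : nd 31 = n31 := ndS (p := 28) (l := 4) rfl N28 D31
theorem N32 : nd 32 = n32 := ndS (p := 28) (l := 6) rfl N28 D32
theorem N33 : nd 33 = n33 := ndS (p := 29) (l := 2) rfl N29 D33
theorem N34 : nd 34 = n34 := ndS (p := 31) (l := 6) rfl N31 D34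
theorem N35 : nd 35 = n35 := ndS (p := 32) (l := 2) rfl N32 D35
theorem N36 : nd 36 = n36 := ndS (p := 33) (l := 1) rfl N33 D36
theorem N37 : nd 37 = n37 := ndS (p := 34) (l := 2) rfl N34 D37
theorem N38 : nd 38 = n38 := ndS (p := 35) (l := 1) rfl N35 D38
theorem N39 : nd 39 = n39 := ndS (p := 36) (l := 0) rfl N36 D39
theorem N40 : nd 40 = n40 := ndS (p := 37) (l := 1) rfl N37 D40
theorem N41 : nd 41 = n41 := ndS (p := 37) (l := 3) rfl N37 D41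
theorem N42 : nd 42 = n42 := ndS (p := 38) (l := 0) rfl N38 D42
theorem N43 : nd 43 = n43 := ndS (p := 40) (l := 0) rfl N40 D43
theorem N44 : nd 44 = n44 := ndS (p := 40) (l := 3) rfl N40 D44
theorem N45 : nd 45 = n45 := ndS (p := 43) (l := 3) rfl N43 D45
theorem N46 : nd 46 = n46 := ndS (p := 44) (l := 2) rfl N44 D46
theorem N47 : nd 47 = n47 := ndS (p := 45) (l := 2) rfl N45 D47
theorem N48 : nd 48 = n48 := ndS (p := 46) (l := 6) rfl N46 D48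
theorem N49 : nd 49 = n49 := ndS (p := 47) (l := 1) rfl N47 D49
theorem N50 : nd 50 = n50 := ndS (p := 47) (l := 6) rfl N47 D50
theorem N51 : nd 51 = n51 := ndS (p := 49) (l := 6) rfl N49 D51
theorem N52 : nd 52 = n52 := ndS (p := 51) (l := 2) rfl N51 D52
theorem N53 : nd 53 = n53 := ndS (p := 52) (l := 3) rfl N52 D53
theorem N54 : nd 54 = n54 := ndS (p := 53) (l := 4) rfl N53 D54
theorem N55 : nd 55 = n55 := ndS (p := 54) (l := 5) rfl N54 D55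
theorem Q1 : ∀ i, i < 1 → P i := stepQ 0 Q0 (allL N0 (tt N0 F1) (tt N0 F2) (tt N0 F3) (tt N0 F4) (tt N0 F5) (tt N1 D1) (tt N0 F6))
theorem Q2 : ∀ i, i < 2 → P i := stepQ 1 Q1 (allL N1 (tt N1 F7) (tt N1 F8) (tt N1 F9) (tt N1 F10) (tt N2 D2) (tt N0 (iv D1)) (tt N1 F11))
theorem Q3 : ∀ i, i < 3 → P i := stepQ 2 Q2 (allL N2 (tt N2 F12) (tt N2 F13) (tt N2 F14) (tt N3 D3) (tt N1 (iv D2)) (tt N2 F15) (tt N2 F16))
theorem Q4 : ∀ i, i < 4 → P i := stepQ 3 Q3 (allL N3 (tt N3 F17) (tt N3 F18) (tt N4 D4) (tt N2 (iv D3)) (tt N3 F19) (tt N3 F20) (tt N3 F21))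
theorem Q5 : ∀ i, i < 5 → P i := stepQ 4 Q4 (allL N4 (tt N4 F22) (tt N5 D5) (tt N3 (iv D4)) (tt N4 F23) (tt N4 F24) (tt N4 F25) (tt N6 D6))
theorem Q6 : ∀ i, i < 6 → P i := stepQ 5 Q5 (allL N5 (tt N7 D7) (tt N4 (iv D5)) (tt N5 F26) (tt N5 F27) (tt N5 F28) (tt N5 F29) (tt N8 D8))
theorem Q7 : ∀ i, i < 7 → P i := stepQ 6 Q6 (allL N6 (tt N6 F30) (tt N8 (iv F40)) (tt N6 F31) (tt N6 F32) (tt N6 F33) (tt N6 F34) (tt N4 (iv D6)))
theorem Q8 : ∀ i, i < 8 → P i := stepQ 7 Q7 (allL N7 (tt N5 (iv D7)) (tt N7 F35) (tt N7 F36) (tt N7 F37) (tt N7 F38) (tt N7 F39) (tt N9 D9))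
theorem Q9 : ∀ i, i < 9 → P i := stepQ 8 Q8 (allL N8 (tt N9 (iv F44)) (tt N6 F40) (tt N10 D10) (tt N8 F41) (tt N8 F42) (tt N8 F43) (tt N5 (iv D8)))
theorem Q10 : ∀ i, i < 10 → P i := stepQ 9 Q9 (allL N9 (tt N8 F44) (tt N9 F45) (tt N11 D11) (tt N9 F46) (tt N9 F47) (tt N9 F48) (tt N7 (iv D9)))
theorem Q11 : ∀ i, i < 11 → P i := stepQ 10 Q10 (allL N10 (tt N11 (iv F53)) (tt N10 F49) (tt N8 (iv D10)) (tt N12 D12) (tt N10 F50) (tt N10 F51) (tt N10 F52))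
theorem Q12 : ∀ i, i < 12 → P i := stepQ 11 Q11 (allL N11 (tt N10 F53) (tt N13 D13) (tt N9 (iv D11)) (tt N14 D14) (tt N11 F54) (tt N11 F55) (tt N11 F56))
theorem Q13 : ∀ i, i < 13 → P i := stepQ 12 Q12 (allL N12 (tt N14 (iv F66)) (tt N12 F57) (tt N12 F58) (tt N10 (iv D12)) (tt N15 D15) (tt N12 F59) (tt N12 F60))
theorem Q14 : ∀ i, i < 14 → P i := stepQ 13 Q13 (allL N13 (tt N13 F61) (tt N11 (iv D13)) (tt N13 F62) (tt N16 D16) (tt N13 F63) (tt N13 F64) (tt N13 F65))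
theorem Q15 : ∀ i, i < 15 → P i := stepQ 14 Q14 (allL N14 (tt N12 F66) (tt N16 (iv F75)) (tt N14 F67) (tt N11 (iv D14)) (tt N17 D17) (tt N14 F68) (tt N14 F69))
theorem Q16 : ∀ i, i < 16 → P i := stepQ 15 Q15 (allL N15 (tt N17 (iv F78)) (tt N15 F70) (tt N15 F71) (tt N15 F72) (tt N12 (iv D15)) (tt N18 D18) (tt N15 F73))
theorem Q17 : ∀ i, i < 17 → P i := stepQ 16 Q16 (allL N16 (tt N16 F74) (tt N14 F75) (tt N19 D19) (tt N13 (iv D16)) (tt N20 D20) (tt N16 F76) (tt N16 F77))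
theorem Q18 : ∀ i, i < 18 → P i := stepQ 17 Q17 (allL N17 (tt N15 F78) (tt N20 (iv F92)) (tt N17 F79) (tt N17 F80) (tt N14 (iv D17)) (tt N21 D21) (tt N17 F81))
theorem Q19 : ∀ i, i < 19 → P i := stepQ 18 Q18 (allL N18 (tt N21 (iv F95)) (tt N18 F82) (tt N18 F83) (tt N18 F84) (tt N18 F85) (tt N15 (iv D18)) (tt N18 F86))
theorem Q20 : ∀ i, i < 20 → P i := stepQ 19 Q19 (allL N19 (tt N19 F87) (tt N19 F88) (tt N16 (iv D19)) (tt N19 F89) (tt N22 D22) (tt N19 F90) (tt N23 D23))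
theorem Q21 : ∀ i, i < 21 → P i := stepQ 20 Q20 (allL N20 (tt N20 F91) (tt N17 F92) (tt N22 (iv F102)) (tt N20 F93) (tt N16 (iv D20)) (tt N24 D24) (tt N20 F94))
theorem Q22 : ∀ i, i < 22 → P i := stepQ 21 Q21 (allL N21 (tt N18 F95) (tt N24 (iv F109)) (tt N21 F96) (tt N21 F97) (tt N21 F98) (tt N17 (iv D21)) (tt N21 F99))
theorem Q23 : ∀ i, i < 23 → P i := stepQ 22 Q22 (allL N22 (tt N22 F100) (tt N22 F101) (tt N20 F102) (tt N25 D25) (tt N19 (iv D22)) (tt N26 D26) (tt N27 D27))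
theorem Q24 : ∀ i, i < 24 → P i := stepQ 23 Q23 (allL N23 (tt N23 F103) (tt N23 F104) (tt N23 F105) (tt N23 F106) (tt N27 (iv F124)) (tt N23 F107) (tt N19 (iv D23)))
theorem Q25 : ∀ i, i < 25 → P i := stepQ 24 Q24 (allL N24 (tt N24 F108) (tt N21 F109) (tt N26 (iv F119)) (tt N24 F110) (tt N24 F111) (tt N20 (iv D24)) (tt N24 F112))
theorem Q26 : ∀ i, i < 26 → P i := stepQ 25 Q25 (allL N25 (tt N25 F113) (tt N25 F114) (tt N25 F115) (tt N22 (iv D25)) (tt N25 F116) (tt N28 D28) (tt N29 D29))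
theorem Q27 : ∀ i, i < 27 → P i := stepQ 26 Q26 (allL N26 (tt N26 F117) (tt N26 F118) (tt N24 F119) (tt N28 (iv F128)) (tt N26 F120) (tt N22 (iv D26)) (tt N30 D30))
theorem Q28 : ∀ i, i < 28 → P i := stepQ 27 Q27 (allL N27 (tt N27 F121) (tt N27 F122) (tt N27 F123) (tt N29 (iv F131)) (tt N23 F124) (tt N30 (iv F137)) (tt N22 (iv D27)))
theorem Q29 : ∀ i, i < 29 → P i := stepQ 28 Q28 (allL N28 (tt N28 F125) (tt N28 F126) (tt N28 F127) (tt N26 F128) (tt N31 D31) (tt N25 (iv D28)) (tt N32 D32))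
theorem Q30 : ∀ i, i < 30 → P i := stepQ 29 Q29 (allL N29 (tt N29 F129) (tt N29 F130) (tt N33 D33) (tt N27 F131) (tt N29 F132) (tt N32 (iv F146)) (tt N25 (iv D29)))
theorem Q31 : ∀ i, i < 31 → P i := stepQ 30 Q30 (allL N30 (tt N30 F133) (tt N30 F134) (tt N30 F135) (tt N32 (iv F145)) (tt N30 F136) (tt N27 F137) (tt N26 (iv D30)))
theorem Q32 : ∀ i, i < 32 → P i := stepQ 31 Q31 (allL N31 (tt N31 F138) (tt N31 F139) (tt N31 F140) (tt N31 F141) (tt N28 (iv D31)) (tt N31 F142) (tt N34 D34))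
theorem Q33 : ∀ i, i < 33 → P i := stepQ 32 Q32 (allL N32 (tt N32 F143) (tt N32 F144) (tt N35 D35) (tt N30 F145) (tt N34 (iv F154)) (tt N29 F146) (tt N28 (iv D32)))
theorem Q34 : ∀ i, i < 34 → P i := stepQ 33 Q33 (allL N33 (tt N33 F147) (tt N36 D36) (tt N29 (iv D33)) (tt N33 F148) (tt N33 F149) (tt N35 (iv F158)) (tt N33 F150))
theorem Q35 : ∀ i, i < 35 → P i := stepQ 34 Q34 (allL N34 (tt N34 F151) (tt N34 F152) (tt N37 D37) (tt N34 F153) (tt N32 F154) (tt N34 F155) (tt N31 (iv D34)))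
theorem Q36 : ∀ i, i < 36 → P i := stepQ 35 Q35 (allL N35 (tt N35 F156) (tt N38 D38) (tt N32 (iv D35)) (tt N35 F157) (tt N37 (iv F165)) (tt N33 F158) (tt N35 F159))
theorem Q37 : ∀ i, i < 37 → P i := stepQ 36 Q36 (allL N36 (tt N39 D39) (tt N33 (iv D36)) (tt N36 F160) (tt N36 F161) (tt N36 F162) (tt N38 (iv F170)) (tt N36 F163))
theorem Q38 : ∀ i, i < 38 → P i := stepQ 37 Q37 (allL N37 (tt N37 F164) (tt N40 D40) (tt N34 (iv D37)) (tt N41 D41) (tt N35 F165) (tt N37 F166) (tt N37 F167))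
theorem Q39 : ∀ i, i < 39 → P i := stepQ 38 Q38 (allL N38 (tt N42 D42) (tt N35 (iv D38)) (tt N38 F168) (tt N38 F169) (tt N40 (iv F178)) (tt N36 F170) (tt N38 F171))
theorem Q40 : ∀ i, i < 40 → P i := stepQ 39 Q39 (allL N39 (tt N36 (iv D39)) (tt N39 F172) (tt N39 F173) (tt N39 F174) (tt N39 F175) (tt N42 (iv F189)) (tt N39 F176))
theorem Q41 : ∀ i, i < 41 → P i := stepQ 40 Q40 (allL N40 (tt N43 D43) (tt N37 (iv D40)) (tt N40 F177) (tt N44 D44) (tt N38 F178) (tt N40 F179) (tt N40 F180))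
theorem Q42 : ∀ i, i < 42 → P i := stepQ 41 Q41 (allL N41 (tt N41 F181) (tt N44 (iv F196)) (tt N41 F182) (tt N37 (iv D41)) (tt N41 F183) (tt N41 F184) (tt N41 F185))
theorem Q43 : ∀ i, i < 43 → P i := stepQ 42 Q42 (allL N42 (tt N38 (iv D42)) (tt N42 F186) (tt N42 F187) (tt N42 F188) (tt N43 (iv F193)) (tt N39 F189) (tt N42 F190))
theorem Q44 : ∀ i, i < 44 → P i := stepQ 43 Q43 (allL N43 (tt N40 (iv D43)) (tt N43 F191) (tt N43 F192) (tt N45 D45) (tt N42 F193) (tt N43 F194) (tt N43 F195))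
theorem Q45 : ∀ i, i < 45 → P i := stepQ 44 Q44 (allL N44 (tt N45 (iv F200)) (tt N41 F196) (tt N46 D46) (tt N40 (iv D44)) (tt N44 F197) (tt N44 F198) (tt N44 F199))
theorem Q46 : ∀ i, i < 46 → P i := stepQ 45 Q45 (allL N45 (tt N44 F200) (tt N45 F201) (tt N47 D47) (tt N43 (iv D45)) (tt N45 F202) (tt N45 F203) (tt N45 F204))
theorem Q47 : ∀ i, i < 47 → P i := stepQ 46 Q46 (allL N46 (tt N47 (iv F209)) (tt N46 F205) (tt N44 (iv D46)) (tt N46 F206) (tt N46 F207) (tt N46 F208) (tt N48 D48))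
theorem Q48 : ∀ i, i < 48 → P i := stepQ 47 Q47 (allL N47 (tt N46 F209) (tt N49 D49) (tt N45 (iv D47)) (tt N47 F210) (tt N47 F211) (tt N47 F212) (tt N50 D50))
theorem Q49 : ∀ i, i < 49 → P i := stepQ 48 Q48 (allL N48 (tt N50 (iv F223)) (tt N48 F213) (tt N48 F214) (tt N48 F215) (tt N48 F216) (tt N48 F217) (tt N46 (iv D48)))
theorem Q50 : ∀ i, i < 50 → P i := stepQ 49 Q49 (allL N49 (tt N49 F218) (tt N47 (iv D49)) (tt N49 F219) (tt N49 F220) (tt N49 F221) (tt N49 F222) (tt N51 D51))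
theorem Q51 : ∀ i, i < 51 → P i := stepQ 50 Q50 (allL N50 (tt N48 F223) (tt N51 (iv F229)) (tt N50 F224) (tt N50 F225) (tt N50 F226) (tt N50 F227) (tt N47 (iv D50)))
theorem Q52 : ∀ i, i < 52 → P i := stepQ 51 Q51 (allL N51 (tt N51 F228) (tt N50 F229) (tt N52 D52) (tt N51 F230) (tt N51 F231) (tt N51 F232) (tt N49 (iv D51)))
theorem Q53 : ∀ i, i < 53 → P i := stepQ 52 Q52 (allL N52 (tt N52 F233) (tt N52 F234) (tt N51 (iv D52)) (tt N53 D53) (tt N52 F235) (tt N52 F236) (tt N52 F237))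
theorem Q54 : ∀ i, i < 54 → P i := stepQ 53 Q53 (allL N53 (tt N53 F238) (tt N53 F239) (tt N53 F240) (tt N52 (iv D53)) (tt N54 D54) (tt N53 F241) (tt N53 F242))
theorem Q55 : ∀ i, i < 55 → P i := stepQ 54 Q54 (allL N54 (tt N54 F243) (tt N54 F244) (tt N54 F245) (tt N54 F246) (tt N53 (iv D54)) (tt N55 D55) (tt N54 F247))
theorem Q56 : ∀ i, i < 56 → P i := stepQ 55 Q55 (allL N55 (tt N55 F248) (tt N55 F249) (tt N55 F250) (tt N55 F251) (tt N55 F252) (tt N54 (iv D55)) (tt N55 F253))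

theorem closedN : ∀ i, i < N → P i := Q56

end Cfsg.Agent.Helper17.FiR3TC
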